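import Groth.Agent.S0414
import Mathlib.AlgebraicGeometry.Morphisms.UniversallyOpen
import Mathlib.AlgebraicGeometry.Morphisms.QuasiSeparated
import Mathlib.AlgebraicGeometry.Fiber
import Mathlib.AlgebraicGeometry.Noetherian

/-!
# Generic quasi-separatedness over a reduced irreducible base
-/

set_option autoImplicit false
set_option linter.style.haveILetI false
set_option backward.isDefEq.respectTransparency false
set_option backward.isDefEq.respectTransparency.types false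

universe u

open CategoryTheory CategoryTheory.Limits AlgebraicGeometry TopologicalSpace

noncomputable section

namespace Groth.L20.GenQS

variable {X U : Scheme.{u}} (p : X ⟶ U)

theorem genericPoint_mem [IrreducibleSpace ↥U] (W : U.Opens) (h : (W : Set U).Nonempty) : genericPoint ↥U ∈ W :=
  ((genericPoint_spec ↥U).mem_open_set_iff W.2).mpr (by simpa using h)

/-- Over a nonempty open the intersection of two affine opens lies in a compact subset of it. -/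
theorem exists_compact_inter [IsAffine U] [IsReduced U] [IrreducibleSpace ↥U] [LocallyOfFiniteType p] [QuasiCompact p]
    (V V' : X.affineOpens) :
    ∃ (W : U.Opens) (Q : X.Opens), genericPoint ↥U ∈ W ∧ IsCompact (Q : Set X) ∧ Q ≤ V.1 ⊓ V'.1 ∧
      ∀ x ∈ V.1 ⊓ V'.1, p x ∈ W → x ∈ Q := by
  classical
  let η := genericPoint ↥U
  let F := p.fiber η
  haveI : LocallyOfFiniteType (p.fiberToSpecResidueField η) := MorphismProperty.pullback_snd _ _ inferInstance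
  haveI : QuasiCompact (p.fiberToSpecResidueField η) := MorphismProperty.pullback_snd _ _ inferInstance
  haveI : IsLocallyNoetherian F := LocallyOfFiniteType.isLocallyNoetherian (p.fiberToSpecResidueField η)
  haveI : CompactSpace ↥F := QuasiCompact.compactSpace_of_compactSpace (p.fiberToSpecResidueField η)
  haveI : IsNoetherian F := ⟨⟩
  have hF : IsCompact ((p.fiberι η) '' ((p.fiberι η) ⁻¹' (V.1 ⊓ V'.1 : X.Opens))) :=
    (NoetherianSpace.isCompact _).image (p.fiberι η).continuous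
  have hcov : (p.fiberι η) '' ((p.fiberι η) ⁻¹' (V.1 ⊓ V'.1 : X.Opens)) ⊆
      ⋃ O : {O : X.affineOpens // O.1 ≤ V.1 ⊓ V'.1}, (O.1.1 : Set X) := by
    rintro _ ⟨z, hz, rfl⟩
    obtain ⟨O, hO, hzO, hOV⟩ := exists_isAffineOpen_mem_and_subset (show p.fiberι η z ∈ V.1 ⊓ V'.1 from hz)
    exact Set.mem_iUnion.mpr ⟨⟨⟨O, hO⟩, hOV⟩, hzO⟩
  obtain ⟨t, ht⟩ := hF.elim_finite_subcover _ (fun O => O.1.1.2) hcov
  let Q : X.Opens := t.sup fun O => O.1.1
  have hQc : IsCompact (Q : Set X) := by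
    show IsCompact ((t.sup fun O => O.1.1 : X.Opens) : Set X)
    rw [Finset.sup_eq_iSup, Opens.coe_iSup]
    simp only [Opens.coe_iSup]
    exact t.finite_toSet.isCompact_biUnion fun O _ => O.1.2.isCompact
  have hQle : Q ≤ V.1 ⊓ V'.1 := Finset.sup_le fun O _ => O.2
  have hQF : ∀ x ∈ V.1 ⊓ V'.1, p x = η → x ∈ Q := by
    intro x hx hpx
    obtain ⟨z, rfl⟩ : x ∈ Set.range (p.fiberι η) := by rw [p.range_fiberι]; exact hpx
    obtain ⟨O, hO, hzO⟩ := Set.mem_iUnion₂.mp (ht ⟨z, hx, rfl⟩)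
    exact (Finset.le_sup (f := fun O : {O : X.affineOpens // O.1 ≤ V.1 ⊓ V'.1} => O.1.1) hO) hzO
  let C : Closeds ↥(V.1 : Scheme.{u}) := ⟨((V.1.ι ⁻¹ᵁ Q : (V.1 : Scheme.{u}).Opens) : Set ↥(V.1 : Scheme.{u}))ᶜ,
    (V.1.ι ⁻¹ᵁ Q).2.isClosed_compl⟩
  let J := Scheme.IdealSheafData.vanishingIdeal C
  let q := J.subschemeι ≫ V.1.ι ≫ p
  haveI : IsAffine (V.1 : Scheme.{u}) := V.2
  haveI : IsAffine J.subscheme := isAffine_of_isAffineHom J.subschemeι
  haveI : QuasiCompact q := inferInstance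
  haveI : LocallyOfFiniteType q := inferInstance
  obtain ⟨W, hW, hflat, -⟩ := Groth.Agent.S0414.result q
  have hηW : η ∈ W := genericPoint_mem W hW.nonempty
  refine ⟨W, Q, hηW, hQc, hQle, fun x hx hxW => ?_⟩
  by_contra hxQ
  obtain ⟨c, hc⟩ : (⟨x, hx.1⟩ : ↥(V.1 : Scheme.{u})) ∈ Set.range J.subschemeι := by
    rw [Scheme.IdealSheafData.range_subschemeι, Scheme.IdealSheafData.coe_support_vanishingIdeal]
    exact hxQ
  have hcx : V.1.ι (J.subschemeι c) = x := by rw [hc]; rfl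
  have hcW : c ∈ q ⁻¹ᵁ W := by
    show q c ∈ W
    rw [Scheme.Hom.comp_apply, Scheme.Hom.comp_apply, hcx]; exact hxW
  obtain ⟨c', hc', hc'η⟩ := Flat.generalizingMap (q ∣_ W) (a := ⟨c, hcW⟩) (b := ⟨η, hηW⟩)
    (show (⟨η, hηW⟩ : ↥(W : Scheme.{u})) ⤳ (q ∣_ W) ⟨c, hcW⟩ from
      W.ι.isOpenEmbedding.isInducing.specializes_iff.mp (genericPoint_specializes _))
  let c₁ : ↥J.subscheme := (q ⁻¹ᵁ W).ι c'
  have hsp : V.1.ι (J.subschemeι c₁) ⤳ x := hcx ▸ ((hc'.map (q ⁻¹ᵁ W).ι.continuous).map J.subschemeι.continuous).map V.1.ι.continuous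
  have hqη : p (V.1.ι (J.subschemeι c₁)) = η := by
    have h := congrArg W.ι hc'η
    rw [← Scheme.Hom.comp_apply, morphismRestrict_ι, Scheme.Hom.comp_apply] at h
    exact h
  have hmem : J.subschemeι c₁ ∈ (C : Set _) := by
    have : J.subschemeι c₁ ∈ Set.range J.subschemeι := ⟨_, rfl⟩
    rwa [Scheme.IdealSheafData.range_subschemeι, Scheme.IdealSheafData.coe_support_vanishingIdeal] at this
  exact hmem (hQF _ (hsp.mem_open (V.1 ⊓ V'.1).2 hx) hqη)

/-- A morphism of finite type is quasi-separated over a nonempty open of a reduced irreducible affine base. -/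
theorem exists_open_quasiSeparated [IsAffine U] [IsReduced U] [IrreducibleSpace ↥U] [LocallyOfFiniteType p] [QuasiCompact p] :
    ∃ W : U.Opens, (W : Set U).Nonempty ∧ QuasiSeparated (p ∣_ W) := by
  classical
  haveI : CompactSpace ↥X := QuasiCompact.compactSpace_of_compactSpace p
  obtain ⟨t, ht⟩ := (isCompact_univ (X := ↥X)).elim_finite_subcover (fun V : X.affineOpens => (V.1 : Set X))
    (fun V => V.1.2) (fun x _ => by
      obtain ⟨O, hO, hxO, -⟩ := exists_isAffineOpen_mem_and_subset (show x ∈ (⊤ : X.Opens) from trivial)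
      exact Set.mem_iUnion.mpr ⟨⟨O, hO⟩, hxO⟩)
  choose W Q hW hQc hQle hQ using exists_compact_inter p
  let W₀ : U.Opens := (t ×ˢ t).inf fun P => W P.1 P.2
  have hη : genericPoint ↥U ∈ W₀ := by
    show genericPoint ↥U ∈ (((t ×ˢ t).inf fun P => W P.1 P.2 : U.Opens) : Set U)
    rw [Opens.coe_finset_inf]
    simp only [Finset.inf_eq_iInf, Set.iInf_eq_iInter, Set.mem_iInter, Function.comp_apply]
    exact fun P _ => hW P.1 P.2
  obtain ⟨W₁, hW₁, hηW₁, hW₁le⟩ := exists_isAffineOpen_mem_and_subset hη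
  refine ⟨W₁, ⟨_, hηW₁⟩, ?_⟩
  haveI : IsAffine (W₁ : Scheme.{u}) := hW₁
  rw [quasiSeparated_iff_quasiSeparatedSpace]
  have hA : ∀ V : X.affineOpens, IsAffineOpen (V.1 ⊓ p ⁻¹ᵁ W₁) := fun V => by
    haveI : IsAffine (V.1 : Scheme.{u}) := V.2
    have h := (hW₁.preimage (V.1.ι ≫ p)).image_of_isOpenImmersion V.1.ι
    convert h using 1
    rw [Scheme.Hom.comp_preimage, Scheme.Hom.image_preimage_eq_opensRange_inf, Scheme.Opens.opensRange_ι]
  refine Scheme.quasiSeparatedSpace_of_isOpenCover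
    (fun V : t => (p ⁻¹ᵁ W₁).ι ⁻¹ᵁ (V.1.1 ⊓ p ⁻¹ᵁ W₁)) ?_ (fun V => ?_) (fun V V' => ?_)
  · refine eq_top_iff.mpr fun z _ => ?_
    obtain ⟨V, hV, hzV⟩ := Set.mem_iUnion₂.mp (ht (Set.mem_univ z.1))
    exact Opens.mem_iSup.mpr ⟨⟨V, hV⟩, hzV, z.2⟩
  · refine (hA V.1).preimage_of_isOpenImmersion _ ?_
    rw [Scheme.Opens.opensRange_ι]
    exact inf_le_right
  · refine ((p ⁻¹ᵁ W₁).ι.isOpenEmbedding.isEmbedding.isCompact_iff).mpr ?_
    have hc : IsCompact ((Q V.1 V'.1 : Set X) ∩ ((V.1.1 ⊓ p ⁻¹ᵁ W₁ : X.Opens) : Set X)) :=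
      V.1.2.isQuasiSeparated (Q V.1 V'.1) (V.1.1 ⊓ p ⁻¹ᵁ W₁ : X.Opens) (fun z hz => (hQle _ _ hz).1) (Q _ _).2 (hQc _ _)
        Set.inter_subset_left (V.1.1 ⊓ p ⁻¹ᵁ W₁).2 (hA V.1).isCompact
    convert hc using 1
    ext z
    constructor
    · rintro ⟨w, ⟨⟨h1, h2⟩, h3, -⟩, rfl⟩
      refine ⟨hQ _ _ _ ⟨h1, h3⟩ ?_, h1, h2⟩
      have h4 : p w.1 ∈ (((t ×ˢ t).inf fun P => W P.1 P.2 : U.Opens) : Set U) := hW₁le h2
      rw [Opens.coe_finset_inf] at h4
      simp only [Finset.inf_eq_iInf, Set.iInf_eq_iInter, Set.mem_iInter, Function.comp_apply] at h4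
      exact h4 (V.1, V'.1) (Finset.mem_product.mpr ⟨V.2, V'.2⟩)
    · rintro ⟨hzQ, h1, h2⟩
      exact ⟨⟨z, h2⟩, ⟨⟨h1, h2⟩, (hQle _ _ hzQ).2, h2⟩, rfl⟩

end Groth.L20.GenQS
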